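import Groth.Agent.Lib.NeronCompGrp24.Stab
import Groth.Agent.Lib.AbMul.EtalePow
import Groth.Agent.Lib.GrpSchField.Components
import Mathlib

/-!
# The component group of a commutative group over an algebraically closed field
-/

set_option autoImplicit false
set_option linter.style.haveILetI false
set_option backward.isDefEq.respectTransparency false
set_option backward.isDefEq.respectTransparency.types false

universe u

open CategoryTheory CategoryTheory.Limits MonoidalCategory CartesianMonoidalCategory MonObj AlgebraicGeometry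

namespace GrothLib.NeronCompGrp24

variable {k : Type u} [Field k] (G : Over (Spec (CommRingCat.of k))) [GrpObj G] [IsCommMonObj G]

/-- The point under a rational point. -/
noncomputable abbrev ptOf (a : 𝟙_ (Over (Spec (CommRingCat.of k))) ⟶ G) : G.left :=
  a.left (IsLocalRing.closedPoint k)

theorem translate_mem {a b c : 𝟙_ (Over (Spec (CommRingCat.of k))) ⟶ G}
    (h : ptOf G a ∈ connectedComponent (ptOf G b)) :
    ptOf G (a * c) ∈ connectedComponent (ptOf G (b * c)) := by
  let T : G ⟶ G := 𝟙 G * (toUnit G ≫ c)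
  have hT : ∀ d : 𝟙_ (Over (Spec (CommRingCat.of k))) ⟶ G, T.left (ptOf G d) = ptOf G (d * c) := fun d => by
    show T.left (d.left (IsLocalRing.closedPoint k)) = _
    rw [← Scheme.Hom.comp_apply, ← Over.comp_left]
    congr 2
    simp only [T, MonObj.comp_mul, Category.comp_id, ← Category.assoc, toUnit_unique (d ≫ toUnit G) (𝟙 _),
      Category.id_comp]
  rw [← hT a, ← hT b]
  exact T.left.continuous.image_connectedComponent_subset _ ⟨_, h, rfl⟩

/-- The points of the neutral component. -/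
def neutralPts : Subgroup (𝟙_ (Over (Spec (CommRingCat.of k))) ⟶ G) where
  carrier := {a | ptOf G a ∈ connectedComponent (ptOf G 1)}
  one_mem' := mem_connectedComponent
  mul_mem' {a b} ha hb := by
    have h := translate_mem G (c := b) ha
    rw [_root_.one_mul] at h
    show ptOf G (a * b) ∈ connectedComponent (ptOf G 1)
    rwa [connectedComponent_eq hb]
  inv_mem' {a} ha := by
    have h := translate_mem G (c := a⁻¹) ha
    rw [_root_.one_mul, mul_inv_cancel] at h
    show ptOf G a⁻¹ ∈ connectedComponent (ptOf G 1)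
    rw [← connectedComponent_eq h]
    exact mem_connectedComponent

theorem mem_neutralPts_iff (a : 𝟙_ (Over (Spec (CommRingCat.of k))) ⟶ G) :
    a ∈ neutralPts G ↔ ptOf G a ∈ connectedComponent (η[G].left (IsLocalRing.closedPoint k)) := by
  have e : (1 : 𝟙_ (Over (Spec (CommRingCat.of k))) ⟶ G) = η[G] := (MonObj.one_eq_one G).symm
  show ptOf G a ∈ connectedComponent (ptOf G 1) ↔ _
  rw [e]

theorem mem_component_iff (a b : 𝟙_ (Over (Spec (CommRingCat.of k))) ⟶ G) :
    ptOf G a ∈ connectedComponent (ptOf G b) ↔ a * b⁻¹ ∈ neutralPts G := by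
  constructor
  · intro h
    have := translate_mem G (c := b⁻¹) h
    rwa [mul_inv_cancel] at this
  · intro h
    have := translate_mem G (c := b) h
    rwa [inv_mul_cancel_right, _root_.one_mul] at this

variable [Smooth G.hom] [QuasiCompact G.hom]

/-- Every point has a positive power in the neutral component. -/
theorem exists_pow_mem (a : 𝟙_ (Over (Spec (CommRingCat.of k))) ⟶ G) : ∃ N : ℕ, 0 < N ∧ a ^ N ∈ neutralPts G := by
  haveI : IsLocallyNoetherian G.left := LocallyOfFiniteType.isLocallyNoetherian G.hom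
  haveI : CompactSpace G.left := (quasiCompact_iff_compactSpace G.hom).1 inferInstance
  haveI : AlgebraicGeometry.IsNoetherian G.left := AlgebraicGeometry.IsNoetherian.mk
  haveI : Finite (irreducibleComponents (G.left : Type u)) :=
    TopologicalSpace.NoetherianSpace.finite_irreducibleComponents.to_subtype
  obtain ⟨i, j, hne, hij⟩ := Finite.exists_ne_map_eq_of_infinite (fun n : ℕ =>
    (⟨irreducibleComponent (ptOf G (a ^ n)), irreducibleComponent_mem_irreducibleComponents _⟩ :
      irreducibleComponents (G.left : Type u)))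
  wlog hlt : i < j generalizing i j
  · exact this j i hne.symm hij.symm (lt_of_le_of_ne (not_lt.1 hlt) hne.symm)
  refine ⟨j - i, Nat.sub_pos_of_lt hlt, ?_⟩
  have h : ptOf G (a ^ j) ∈ connectedComponent (ptOf G (a ^ i)) := by
    rw [GrothLib.GrpSchField.connectedComponent_eq_irreducibleComponent]
    have e : irreducibleComponent (ptOf G (a ^ i)) = irreducibleComponent (ptOf G (a ^ j)) := congrArg Subtype.val hij
    rw [e]
    exact mem_irreducibleComponent
  have := (mem_component_iff G _ _).1 h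
  rwa [← pow_sub a hlt.le] at this

variable [IsAlgClosed k]

/-- The neutral component is divisible by integers prime to the characteristic. -/
theorem exists_root (n : ℕ) (hn : (n : k) ≠ 0) {a : 𝟙_ (Over (Spec (CommRingCat.of k))) ⟶ G}
    (ha : a ∈ neutralPts G) : ∃ w ∈ neutralPts G, w ^ n = a := by
  haveI : IsSeparated G.hom := GrothLib.GrpSchField.isSeparated G
  haveI : Subsingleton ↥(𝟙_ (Over (Spec (CommRingCat.of k)))).left := inferInstanceAs (Subsingleton (PrimeSpectrum k))
  obtain ⟨G₀, _, j, hjm, hjo, hrange, hsm, hqc⟩ := GrothLib.Neutral.exists_neutralPart G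
  haveI := hjm; haveI := hjo; haveI := hsm; haveI := hqc
  rw [GrothLib.Induce27.neutralSet_eq G (IsLocalRing.closedPoint k)] at hrange
  haveI hconn : ConnectedSpace G₀.left := by
    have hc : _root_.IsConnected (Set.range j.left.base) := hrange ▸ isConnected_connectedComponent
    haveI : ConnectedSpace (Set.range j.left.base) := Subtype.connectedSpace hc
    exact j.left.isOpenEmbedding.toIsEmbedding.toHomeomorph.symm.surjective.connectedSpace
      j.left.isOpenEmbedding.toIsEmbedding.toHomeomorph.symm.continuous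
  haveI : IsMonHom (j ^ n) := GrothLib.GrpDeligne.isMonHom_pow j n
  haveI : QuasiCompact (j ^ n).left := by
    haveI : QuasiCompact ((j ^ n).left ≫ G.hom) := by rw [Over.w]; infer_instance
    exact QuasiCompact.of_comp (j ^ n).left G.hom
  haveI : Etale (j ^ n).left := by
    rw [show j ^ n = j ≫ 𝟙 G ^ (n : ℤ) by rw [zpow_natCast, MonObj.comp_pow, Category.comp_id], Over.comp_left]
    haveI := GrothLib.AbMul.etale_pow_field G (n : ℤ) (by exact_mod_cast hn)
    infer_instance
  have hne : η[G].left (IsLocalRing.closedPoint k) ∈ Set.range (j ^ n).left :=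
    ⟨η[G₀].left (IsLocalRing.closedPoint k), by
      rw [← Scheme.Hom.comp_apply, ← Over.comp_left, IsMonHom.one_hom]⟩
  have hsurj : connectedComponent (η[G].left (IsLocalRing.closedPoint k)) ⊆ Set.range (j ^ n).left :=
    IsClopen.connectedComponent_subset ⟨isClosed_range_hom (j ^ n), (j ^ n).left.isOpenMap.isOpen_range⟩ hne
  haveI : Subsingleton ↥(Spec (CommRingCat.of k)) := inferInstanceAs (Subsingleton (PrimeSpectrum k))
  have hac : IsClosed ({ptOf G a} : Set G.left) := by
    haveI := isClosedImmersion_of_comp_eq_id _ _ (Over.w a)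
    have h := a.left.isClosedEmbedding.isClosed_range
    convert h
    ext b
    exact ⟨fun hb => ⟨_, hb.symm⟩, fun ⟨q, hq⟩ => by
      rw [← hq, Subsingleton.elim (α := ↥(Spec (CommRingCat.of k))) q (IsLocalRing.closedPoint k)]; rfl⟩
  haveI : JacobsonSpace G₀.left := LocallyOfFiniteType.jacobsonSpace G₀.hom
  obtain ⟨b, hb⟩ := hsurj ((mem_neutralPts_iff G a).1 ha)
  obtain ⟨w, hw, hwc⟩ := nonempty_inter_closedPoints (X := G₀.left) (Z := (j ^ n).left ⁻¹' {ptOf G a})
    ⟨b, hb⟩ (hac.preimage (j ^ n).left.continuous).isLocallyClosed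
  let w₀ : 𝟙_ (Over (Spec (CommRingCat.of k))) ⟶ G₀ :=
    Over.homMk (pointOfClosedPoint G₀.hom w hwc) (pointOfClosedPoint_comp G₀.hom w hwc)
  refine ⟨w₀ ≫ j, ?_, ?_⟩
  · rw [mem_neutralPts_iff, ← hrange]
    exact ⟨w₀.left (IsLocalRing.closedPoint k), (Scheme.Hom.comp_apply _ _ _).symm⟩
  · rw [← MonObj.comp_pow]
    refine pt_ext _ _ ?_
    rw [Over.comp_left, Scheme.Hom.comp_apply]
    exact (congrArg (j ^ n).left (pointOfClosedPoint_apply G₀.hom w hwc _)).trans hw

/-- Splitting of the component group reduces to the `p`-primary part. -/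
theorem split_of_pPart (p : ℕ) [Fact p.Prime] [CharP k p]
    (h : ∀ x : 𝟙_ (Over (Spec (CommRingCat.of k))) ⟶ G, (∃ r : ℕ, x ^ (p ^ r) ∈ neutralPts G) →
      ∃ y, y * x⁻¹ ∈ neutralPts G ∧ ∀ n : ℕ, y ^ n = 1 ↔ x ^ n ∈ neutralPts G)
    (x : 𝟙_ (Over (Spec (CommRingCat.of k))) ⟶ G) :
    ∃ y, y * x⁻¹ ∈ neutralPts G ∧ ∀ n : ℕ, y ^ n = 1 ↔ x ^ n ∈ neutralPts G := by
  classical
  have hex := exists_pow_mem G x
  let N := Nat.find hex
  obtain ⟨hN0, hN⟩ : 0 < N ∧ x ^ N ∈ neutralPts G := Nat.find_spec hex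
  have hdvd : ∀ n : ℕ, x ^ n ∈ neutralPts G ↔ N ∣ n := fun n => by
    refine ⟨fun hn => ?_, fun ⟨c, hc⟩ => by rw [hc, pow_mul]; exact pow_mem hN c⟩
    refine Nat.dvd_of_mod_eq_zero ?_
    by_contra hne
    have h1 : x ^ (n % N) ∈ neutralPts G := by
      have e : x ^ (n % N) = x ^ n * ((x ^ N) ^ (n / N))⁻¹ := by
        rw [eq_mul_inv_iff_mul_eq, ← pow_mul, ← pow_add, Nat.mod_add_div]
      rw [e]
      exact mul_mem hn (inv_mem (pow_mem hN _))
    exact Nat.find_min hex (Nat.mod_lt n hN0) ⟨Nat.pos_of_ne_zero hne, h1⟩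
  obtain ⟨r, m, hm, hNe⟩ := Nat.exists_eq_pow_mul_and_not_dvd (n := N) hN0.ne' p (Fact.out : p.Prime).ne_one
  have hcop : Int.gcd (m : ℤ) ((p ^ r : ℕ) : ℤ) = 1 := by
    rw [Int.gcd_natCast_natCast]
    exact (((Nat.Prime.coprime_iff_not_dvd Fact.out).2 hm).symm.pow_right r)
  obtain ⟨u, v, huv⟩ := Int.isCoprime_iff_gcd_eq_one.2 hcop
  have hx : (x ^ m) ^ u * (x ^ (p ^ r)) ^ v = x := by
    rw [← zpow_natCast x m, ← zpow_natCast x (p ^ r), ← zpow_mul, ← zpow_mul, ← zpow_add,
      show (m : ℤ) * u + ((p ^ r : ℕ) : ℤ) * v = 1 by rw [← huv]; ring, zpow_one]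
  obtain ⟨y₁, hy₁, hy₁n⟩ := h ((x ^ m) ^ u) ⟨r, by
    rw [← zpow_natCast _ (p ^ r), ← zpow_mul, _root_.mul_comm u, zpow_mul, zpow_natCast, ← pow_mul,
      _root_.mul_comm m, ← hNe]
    exact zpow_mem hN u⟩
  have hm0 : (m : k) ≠ 0 := fun h0 => hm ((CharP.cast_eq_zero_iff k p m).1 h0)
  have h2 : ((x ^ (p ^ r)) ^ v) ^ m ∈ neutralPts G := by
    rw [← zpow_natCast _ m, ← zpow_mul, _root_.mul_comm v, zpow_mul, zpow_natCast, ← pow_mul, ← hNe]
    exact zpow_mem hN v
  obtain ⟨w, hw, hwm⟩ := exists_root G m hm0 h2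
  have hy₂ : ((x ^ (p ^ r)) ^ v * w⁻¹) ^ m = 1 := by rw [_root_.mul_pow, inv_pow, hwm, mul_inv_cancel]
  have hmem : y₁ * ((x ^ (p ^ r)) ^ v * w⁻¹) * x⁻¹ ∈ neutralPts G := by
    have e : y₁ * ((x ^ (p ^ r)) ^ v * w⁻¹) * x⁻¹ = (y₁ * ((x ^ m) ^ u)⁻¹) * w⁻¹ := by
      have key : ∀ a b : 𝟙_ (Over (Spec (CommRingCat.of k))) ⟶ G, a * b = x →
          y₁ * (b * w⁻¹) * x⁻¹ = y₁ * a⁻¹ * w⁻¹ := fun a b hab => by
        rw [← hab, mul_inv]
        calc y₁ * (b * w⁻¹) * (a⁻¹ * b⁻¹) = (y₁ * a⁻¹ * w⁻¹) * (b * b⁻¹) := by ac_rfl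
          _ = y₁ * a⁻¹ * w⁻¹ := by rw [mul_inv_cancel, _root_.mul_one]
      exact key _ _ hx
    rw [e]
    exact mul_mem hy₁ (inv_mem hw)
  refine ⟨_, hmem, fun n => ⟨fun hyn => ?_, fun hxn => ?_⟩⟩
  · have h3 := pow_mem hmem n
    rw [_root_.mul_pow, inv_pow, hyn, _root_.one_mul] at h3
    exact inv_mem_iff.1 h3
  · obtain ⟨c, hc⟩ := (Dvd.intro_left (p ^ r) hNe.symm).trans ((hdvd n).1 hxn)
    have h4 : y₁ ^ n = 1 := (hy₁n n).2 (by
      rw [← zpow_natCast _ n, ← zpow_mul, _root_.mul_comm u, zpow_mul, zpow_natCast, ← pow_mul, _root_.mul_comm m,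
        pow_mul]
      exact zpow_mem (pow_mem hxn m) u)
    rw [_root_.mul_pow, h4, hc, pow_mul, hy₂, one_pow, _root_.one_mul]

end GrothLib.NeronCompGrp24
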