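import Groth.Agent.Lib.Induce27.Neutral
import Groth.Agent.Lib.Neutral.QCHom
import Groth.Agent.Lib.GrpDeligne.Factor
import Mathlib

/-!
# Torsion points in the connected components of a commutative group over an algebraically closed field
-/

set_option autoImplicit false
set_option linter.style.haveILetI false
set_option backward.isDefEq.respectTransparency false
set_option backward.isDefEq.respectTransparency.types false

universe u

open CategoryTheory CategoryTheory.Limits MonoidalCategory CartesianMonoidalCategory MonObj AlgebraicGeometry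

namespace GrothLib.NeronCompGrp24

/-- The image of a quasi-compact homomorphism of groups over a field is closed. -/
theorem isClosed_range_hom {K : Type u} [Field K] {G H : Over (Spec (CommRingCat.of K))} [GrpObj G] [GrpObj H]
    [LocallyOfFiniteType G.hom] [LocallyOfFiniteType H.hom] (u : H ⟶ G) [IsMonHom u] [QuasiCompact u.left] :
    IsClosed (Set.range u.left) := by
  haveI : QuasiCompact ((GrothLib.MonoHom.homAction u).orbitMap η[G]).left := by
    rw [GrothLib.MonoHom.homAction_orbitMap]; infer_instance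
  have h := GrothLib.GrpSchField.isLocallyClosed_range_orbitMap (GrothLib.MonoHom.homAction u) η[G]
  rw [GrothLib.MonoHom.homAction_orbitMap] at h
  exact GrothLib.GrpSchField.isClosed_range_of_isLocallyClosed u h

variable {k : Type u} [Field k] [IsAlgClosed k]

/-- Points over an algebraically closed field are determined by their image. -/
theorem pt_ext {G : Over (Spec (CommRingCat.of k))} [LocallyOfFiniteType G.hom] (a b : 𝟙_ (Over (Spec (CommRingCat.of k))) ⟶ G)
    (h : a.left (IsLocalRing.closedPoint k) = b.left (IsLocalRing.closedPoint k)) : a = b :=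
  Over.OverMorphism.ext (AlgebraicGeometry.ext_of_apply_closedPoint_eq G.hom
    ((Over.w a).trans (Over.w (𝟙 (𝟙_ (Over (Spec (CommRingCat.of k)))))).symm.symm)
    (Over.w b) h)

/-- If a power `p ^ r` of a point lies in the neutral component, then the component of the point contains a point
killed by a power of `p`. -/
theorem exists_torsion_in_component (G : Over (Spec (CommRingCat.of k))) [GrpObj G] [IsCommMonObj G] [Smooth G.hom]
    [QuasiCompact G.hom] (p : ℕ) (x : 𝟙_ (Over (Spec (CommRingCat.of k))) ⟶ G) (r : ℕ)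
    (hx : (x ^ (p ^ r)).left (IsLocalRing.closedPoint k) ∈ connectedComponent (η[G].left (IsLocalRing.closedPoint k))) :
    ∃ y : 𝟙_ (Over (Spec (CommRingCat.of k))) ⟶ G,
      y.left (IsLocalRing.closedPoint k) ∈ connectedComponent (x.left (IsLocalRing.closedPoint k)) ∧
        ∃ s : ℕ, y ^ (p ^ s) = 1 := by
  haveI : IsSeparated G.hom := GrothLib.GrpSchField.isSeparated G
  haveI : IsLocallyNoetherian G.left := LocallyOfFiniteType.isLocallyNoetherian G.hom
  haveI : CompactSpace G.left := (quasiCompact_iff_compactSpace G.hom).1 inferInstance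
  haveI : IsNoetherian G.left := AlgebraicGeometry.IsNoetherian.mk
  haveI hNoeth : TopologicalSpace.NoetherianSpace G.left := inferInstance
  haveI : Subsingleton ↥(Spec (CommRingCat.of k)) := inferInstanceAs (Subsingleton (PrimeSpectrum k))
  haveI : Subsingleton ↥(𝟙_ (Over (Spec (CommRingCat.of k)))).left := inferInstanceAs (Subsingleton (PrimeSpectrum k))
  obtain ⟨G₀, _, j, hjm, hjo, hrange, hsm, hqc⟩ := GrothLib.Neutral.exists_neutralPart G
  haveI := hjm; haveI := hjo; haveI := hsm; haveI := hqc
  rw [GrothLib.Induce27.neutralSet_eq G (IsLocalRing.closedPoint k)] at hrange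
  haveI hconn : ConnectedSpace G₀.left := by
    have hc : _root_.IsConnected (Set.range j.left.base) := hrange ▸ isConnected_connectedComponent
    haveI : ConnectedSpace (Set.range j.left.base) := Subtype.connectedSpace hc
    exact j.left.isOpenEmbedding.toIsEmbedding.toHomeomorph.symm.surjective.connectedSpace
      j.left.isOpenEmbedding.toIsEmbedding.toHomeomorph.symm.continuous
  let f : ℕ → (G₀ ⟶ G) := fun n => j ^ (p ^ n)
  haveI hf : ∀ n, IsMonHom (f n) := fun n => GrothLib.GrpDeligne.isMonHom_pow j _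
  haveI hfq : ∀ n, QuasiCompact (f n).left := fun n => by
    haveI : QuasiCompact ((f n).left ≫ G.hom) := by rw [Over.w]; infer_instance
    exact QuasiCompact.of_comp (f n).left G.hom
  have hclosed : ∀ n, IsClosed (Set.range (f n).left) := fun n => isClosed_range_hom (f n)
  have hanti : ∀ n, Set.range (f (n + 1)).left ⊆ Set.range (f n).left := fun n => by
    have e : f (n + 1) = ((𝟙 G₀) ^ p) ≫ f n := by
      show j ^ (p ^ (n + 1)) = ((𝟙 G₀) ^ p) ≫ j ^ (p ^ n)
      rw [MonObj.comp_pow, MonObj.pow_comp, Category.id_comp, ← pow_mul, pow_succ']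
    rw [e]
    rintro _ ⟨a, rfl⟩
    exact ⟨_, rfl⟩
  let U : ℕ →o TopologicalSpace.Opens G.left :=
    ⟨fun n => ⟨(Set.range (f n).left)ᶜ, (hclosed n).isOpen_compl⟩,
      monotone_nat_of_le_succ fun n => Set.compl_subset_compl.2 (hanti n)⟩
  obtain ⟨m, hm⟩ := wellFoundedGT_iff_monotone_chain_condition.1 hNoeth U
  have hS : Set.range (f m).left = Set.range (f (m + r)).left :=
    compl_injective (congrArg (fun V : TopologicalSpace.Opens G.left => (V : Set G.left)) (hm (m + r) (Nat.le_add_right m r)))
  -- the point in the neutral component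
  obtain ⟨z₀, hz₀⟩ : ∃ z₀ : 𝟙_ _ ⟶ G₀, z₀ ≫ j = x ^ (p ^ r) := by
    have hsub : Set.range (x ^ (p ^ r)).left.base ⊆ Set.range j.left.base := by
      rintro _ ⟨q, rfl⟩
      rw [hrange, Subsingleton.elim (α := ↥(Spec (CommRingCat.of k))) q (IsLocalRing.closedPoint k)]
      exact hx
    refine ⟨Over.homMk (IsOpenImmersion.lift j.left (x ^ (p ^ r)).left hsub) ?_,
      Over.OverMorphism.ext (IsOpenImmersion.lift_fac _ _ _)⟩
    rw [← Over.w j, ← Category.assoc, IsOpenImmersion.lift_fac]
    exact Over.w (x ^ (p ^ r))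
  let t : 𝟙_ _ ⟶ G := z₀ ≫ f m
  have htS : t.left (IsLocalRing.closedPoint k) ∈ Set.range (f (m + r)).left := by
    rw [← hS]
    exact ⟨z₀.left (IsLocalRing.closedPoint k), (Scheme.Hom.comp_apply _ _ _).symm⟩
  have htc : IsClosed ({t.left (IsLocalRing.closedPoint k)} : Set G.left) := by
    haveI := isClosedImmersion_of_comp_eq_id _ _ (Over.w t)
    have h := t.left.isClosedEmbedding.isClosed_range
    convert h
    ext a
    exact ⟨fun ha => ⟨_, ha.symm⟩, fun ⟨q, hq⟩ => by
      rw [← hq, Subsingleton.elim (α := ↥(Spec (CommRingCat.of k))) q (IsLocalRing.closedPoint k)]; rfl⟩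
  haveI : JacobsonSpace G₀.left := LocallyOfFiniteType.jacobsonSpace G₀.hom
  obtain ⟨a, ha⟩ := htS
  obtain ⟨w, hw, hwc⟩ := nonempty_inter_closedPoints (X := G₀.left) (Z := (f (m + r)).left ⁻¹' {t.left (IsLocalRing.closedPoint k)})
    ⟨a, ha⟩ (htc.preimage (f (m + r)).left.continuous).isLocallyClosed
  let w₀ : 𝟙_ (Over (Spec (CommRingCat.of k))) ⟶ G₀ :=
    Over.homMk (pointOfClosedPoint G₀.hom w hwc) (pointOfClosedPoint_comp G₀.hom w hwc)
  have hwt : w₀ ≫ f (m + r) = t := pt_ext _ _ (by
    rw [Over.comp_left, Scheme.Hom.comp_apply]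
    exact (congrArg (f (m + r)).left (pointOfClosedPoint_apply G₀.hom w hwc _)).trans hw)
  let L : G₀ ⟶ G := (toUnit G₀ ≫ x) * j⁻¹
  have hLw : w₀ ≫ L = x * (w₀ ≫ j)⁻¹ := by
    simp only [L, MonObj.comp_mul, GrpObj.comp_inv, ← Category.assoc, toUnit_unique (w₀ ≫ toUnit G₀) (𝟙 _),
      Category.id_comp]
  have hLe : η[G₀] ≫ L = x := by
    have e1 : η[G₀] ≫ j = (1 : 𝟙_ _ ⟶ G) := (IsMonHom.one_hom (f := j)).trans (MonObj.one_eq_one _)
    simp only [L, MonObj.comp_mul, GrpObj.comp_inv, ← Category.assoc, e1, inv_one, _root_.mul_one]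
    rw [toUnit_unique (η[G₀] ≫ toUnit G₀) (𝟙 _), Category.id_comp]
  refine ⟨w₀ ≫ L, ?_, m + r, ?_⟩
  · refine (isPreconnected_range L.left.continuous).subset_connectedComponent
      ⟨η[G₀].left (IsLocalRing.closedPoint k), ?_⟩ ⟨w₀.left (IsLocalRing.closedPoint k), ?_⟩
    · rw [← Scheme.Hom.comp_apply, ← Over.comp_left, hLe]
    · rw [← Scheme.Hom.comp_apply, ← Over.comp_left]
  · rw [hLw, _root_.mul_pow, inv_pow, mul_inv_eq_one]
    have h1 : t = (x ^ (p ^ r)) ^ (p ^ m) := by
      show z₀ ≫ j ^ (p ^ m) = _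
      rw [MonObj.comp_pow, hz₀]
    rw [← MonObj.comp_pow]
    exact (((pow_add p m r).trans (_root_.mul_comm _ _)) ▸ pow_mul x (p ^ r) (p ^ m)).trans (h1.symm.trans hwt.symm)

end GrothLib.NeronCompGrp24
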